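import Mathlib

/-!
# Parameters of the closed fibre and quasi-finiteness
-/

set_option autoImplicit false

universe u

open IsLocalRing

namespace HorizElemLib

/-- A Noetherian local algebra with a single prime and finite residue field is finite. -/
theorem finite_of_residue (k T : Type u) [Field k] [CommRing T] [IsNoetherianRing T] [IsLocalRing T] [Algebra k T]
    (hprime : ∀ p : Ideal T, p.IsPrime → p = maximalIdeal T) [Module.Finite k (ResidueField T)] :
    Module.Finite k T := by
  have h : ∀ (N : Type u) [AddCommGroup N] [Module T N], Module.Finite T N →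
      ∀ [Module k N] [IsScalarTower k T N], Module.Finite k N := by
    intro N _ _ hN
    induction hN using IsNoetherianRing.induction_on_isQuotientEquivQuotientPrime T with
    | subsingleton N => intro _ _; infer_instance
    | quotient N p e =>
      intro _ _
      have hp := hprime p.1 p.2
      let e' : (T ⧸ maximalIdeal T) ≃ₗ[T] N := ((Submodule.quotEquivOfEq _ _ hp).symm.trans e.symm)
      have : Module.Finite k (T ⧸ maximalIdeal T) := ‹Module.Finite k (ResidueField T)›
      exact Module.Finite.equiv (e'.restrictScalars k)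
    | exact N₁ N₂ N₃ f g hf hg hfg h1 h3 =>
      intro _ _
      letI : Module k N₁ := Module.compHom N₁ (algebraMap k T)
      letI : Module k N₃ := Module.compHom N₃ (algebraMap k T)
      have t1 : IsScalarTower k T N₁ := IsScalarTower.of_algebraMap_smul fun _ _ => rfl
      have t3 : IsScalarTower k T N₃ := IsScalarTower.of_algebraMap_smul fun _ _ => rfl
      have f1 : Module.Finite k N₁ := h1
      have f3 : Module.Finite k N₃ := h3
      exact Module.Finite.of_exact (f := f.restrictScalars k) (g := g.restrictScalars k) hfg hg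
  exact h T inferInstance

/-- An element outside the minimal primes lowers the dimension. -/
theorem succ_le_dim {B : Type u} [CommRing B] (I : Ideal B) (g : B) (hg : ∀ q ∈ I.minimalPrimes, g ∉ q)
    (hne : I ⊔ Ideal.span {g} ≠ ⊤) :
    ringKrullDim (B ⧸ (I ⊔ Ideal.span {g})) + 1 ≤ ringKrullDim (B ⧸ I) := by
  have : Nonempty (PrimeSpectrum.zeroLocus (R := B) (I ⊔ Ideal.span {g} : Ideal B)) := by
    rwa [Set.nonempty_coe_sort, Set.nonempty_iff_ne_empty, ne_eq, PrimeSpectrum.zeroLocus_empty_iff_eq_top]
  have : Nonempty (PrimeSpectrum.zeroLocus (R := B) (I : Set B)) := by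
    obtain ⟨q⟩ := this
    exact ⟨⟨q.1, fun x hx => q.2 (Submodule.mem_sup_left hx)⟩⟩
  rw [ringKrullDim_quotient, ringKrullDim_quotient, Order.krullDim_eq_iSup_length, Order.krullDim_eq_iSup_length,
    ← WithBot.coe_one, ← WithBot.coe_add, ENat.iSup_add, WithBot.coe_le_coe, iSup_le_iff]
  intro l
  have hI : I ≤ l.head.1.asIdeal := fun x hx => l.head.2 (Submodule.mem_sup_left hx)
  have hgl : g ∈ l.head.1.asIdeal := l.head.2 (Submodule.mem_sup_right (Ideal.mem_span_singleton_self g))
  obtain ⟨p, hp, hp'⟩ := Ideal.exists_minimalPrimes_le hI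
  let p' : PrimeSpectrum.zeroLocus (R := B) (I : Set B) := ⟨⟨p, hp.1.1⟩, hp.1.2⟩
  let L : LTSeries (PrimeSpectrum.zeroLocus (R := B) (I : Set B)) :=
    l.map (fun q => ⟨q.1, fun x hx => q.2 (Submodule.mem_sup_left hx)⟩) (fun _ _ h => h)
  have hlt : p' < L.head := by
    rw [show L.head = ⟨l.head.1, hI⟩ from rfl]
    exact lt_of_le_of_ne hp' fun h => hg p hp (by
      have : p = l.head.1.asIdeal := congrArg (fun q => q.1.asIdeal) h
      rwa [this])
  refine le_trans ?_ (le_iSup _ (L.cons p' hlt))
  simp [L]

/-- Parameters for a quotient of a local ring. -/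
theorem exists_params {B : Type u} [CommRing B] [IsLocalRing B] (J : Ideal B) (hJ : J ≠ ⊤)
    [IsNoetherianRing (B ⧸ J)] (k : ℕ) (hdim : ringKrullDim (B ⧸ J) ≤ k) :
    ∃ s : Finset B, s.card ≤ k ∧ (∀ x ∈ s, x ∈ maximalIdeal B) ∧
      ∀ P : Ideal B, P.IsPrime → J ≤ P → (∀ x ∈ s, x ∈ P) → P = maximalIdeal B := by
  classical
  have : Nontrivial (B ⧸ J) := Ideal.Quotient.nontrivial_iff.2 hJ
  have : IsLocalRing (B ⧸ J) := IsLocalRing.of_surjective' _ Ideal.Quotient.mk_surjective
  obtain ⟨s₀, hs₀, hcard⟩ := (maximalIdeal (B ⧸ J)).exists_finset_card_eq_height_of_isNoetherianRing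
  have hcomap : (maximalIdeal (B ⧸ J)).comap (Ideal.Quotient.mk J) = maximalIdeal B :=
    IsLocalRing.eq_maximalIdeal (Ideal.comap_isMaximal_of_surjective _ Ideal.Quotient.mk_surjective)
  let l := Function.surjInv (Ideal.Quotient.mk_surjective (I := J))
  have hl : ∀ x, Ideal.Quotient.mk J (l x) = x := Function.surjInv_eq _
  refine ⟨s₀.image l, Finset.card_image_le.trans ?_, fun x hx => ?_, fun P hP hJP hsP => ?_⟩
  · have h1 : ((s₀.card : ℕ∞) : WithBot ℕ∞) ≤ k := by
      rw [hcard, IsLocalRing.maximalIdeal_height_eq_ringKrullDim]; exact hdim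
    exact_mod_cast h1
  · obtain ⟨v, hv, rfl⟩ := Finset.mem_image.1 hx
    rw [← hcomap, Ideal.mem_comap, hl]
    exact hs₀.1.2 (Ideal.subset_span hv)
  · have hker : RingHom.ker (Ideal.Quotient.mk J) ≤ P := by rwa [Ideal.mk_ker]
    have hp : (P.map (Ideal.Quotient.mk J)).IsPrime :=
      Ideal.map_isPrime_of_surjective Ideal.Quotient.mk_surjective hker
    have hle : maximalIdeal (B ⧸ J) ≤ P.map (Ideal.Quotient.mk J) :=
      hs₀.2 ⟨hp, Ideal.span_le.2 fun x hx => by
        rw [← hl x]
        exact Ideal.mem_map_of_mem _ (hsP _ (Finset.mem_image_of_mem _ hx))⟩ (IsLocalRing.le_maximalIdeal hp.ne_top)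
    have h2 := Ideal.comap_mono (f := Ideal.Quotient.mk J) hle
    rw [hcomap, Ideal.comap_map_of_surjective _ Ideal.Quotient.mk_surjective, ← RingHom.ker_eq_comap_bot,
      sup_eq_left.2 hker] at h2
    exact le_antisymm (IsLocalRing.le_maximalIdeal hP.ne_top) h2

section

variable {A B C : Type u} [CommRing A] [CommRing B] [CommRing C] [IsLocalRing A] [IsLocalRing B] [Algebra A B]
  [IsLocalHom (algebraMap A B)] [Algebra A C] [Algebra C B] [IsScalarTower A C B]
  (Q : Ideal C) [Q.IsPrime] [IsLocalization.AtPrime B Q]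

include Q in
theorem exists_residue_basis (e : ℕ) (he : Algebra.trdeg (ResidueField A) (ResidueField B) = e) :
    ∃ Z : Finset C, Z.card ≤ e ∧ ∀ x : ResidueField B,
      IsAlgebraic (Algebra.adjoin (ResidueField A) ((fun c => residue B (algebraMap C B c)) '' (Z : Set C))) x := by
  classical
  let s : Set (ResidueField B) := Set.range fun c => residue B (algebraMap C B c)
  have : Algebra.IsAlgebraic (Algebra.adjoin (ResidueField A) s) (ResidueField B) := ⟨fun x => by
    obtain ⟨b, rfl⟩ := residue_surjective x
    obtain ⟨c, ⟨t, ht⟩, rfl⟩ := IsLocalization.exists_mk'_eq Q.primeCompl b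
    have hu : IsUnit (algebraMap C B t) := IsLocalization.map_units B (⟨t, ht⟩ : Q.primeCompl)
    have hne : residue B (algebraMap C B t) ≠ 0 := (hu.map (residue B)).ne_zero
    have h1 : residue B (IsLocalization.mk' B c (⟨t, ht⟩ : Q.primeCompl)) =
        residue B (algebraMap C B c) * (residue B (algebraMap C B t))⁻¹ := by
      rw [eq_mul_inv_iff_mul_eq₀ hne, ← map_mul]
      exact congrArg _ (IsLocalization.mk'_spec B c (⟨t, ht⟩ : Q.primeCompl))
    rw [h1]
    exact (isAlgebraic_algebraMap (⟨_, Algebra.subset_adjoin ⟨c, rfl⟩⟩ : Algebra.adjoin (ResidueField A) s)).mul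
      (isAlgebraic_algebraMap (⟨_, Algebra.subset_adjoin ⟨t, rfl⟩⟩ : Algebra.adjoin (ResidueField A) s)).inv⟩
  obtain ⟨t, hts, ht⟩ := exists_isTranscendenceBasis_subset (R := ResidueField A) s
  obtain ⟨Z₀, rfl, hZ₀⟩ := Cardinal.mk_set_eq_nat_iff_finset.1 (ht.cardinalMk_eq_trdeg.trans he)
  choose f hf using fun x : Z₀ => hts x.2
  refine ⟨Z₀.attach.image f, Finset.card_image_le.trans (by simp [hZ₀]), fun x => ?_⟩
  have heq : (fun c => residue B (algebraMap C B c)) '' ((Z₀.attach.image f : Finset C) : Set C) = (Z₀ : Set _) := by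
    ext v
    simp only [Finset.coe_image, ← Set.image_comp, Set.mem_image, Finset.mem_coe, Finset.mem_attach, true_and,
      Function.comp_apply]
    constructor
    · rintro ⟨a, rfl⟩
      rw [show residue B (algebraMap C B (f a)) = a from hf a]
      exact a.2
    · intro hv
      exact ⟨⟨v, hv⟩, hf ⟨v, hv⟩⟩
  rw [heq]
  have halg := ht.isAlgebraic.isAlgebraic x
  rw [Subtype.range_coe_subtype, Set.ofPred_mem_eq] at halg
  exact halg

/-- The chosen elements make the algebra quasi-finite at the closed point. -/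
theorem weaklyQuasiFiniteAt [Algebra.EssFiniteType A B] {σ : Type u} [Finite σ]
    [Algebra (MvPolynomial σ A) C] [IsScalarTower A (MvPolynomial σ A) C]
    (hmax : ∀ P : Ideal B, P.IsPrime →
      ((Q.under (MvPolynomial σ A)).map ((algebraMap C B).comp (algebraMap (MvPolynomial σ A) C))) ≤ P →
      P = maximalIdeal B)
    (Z : Set C) (hZ : Z ⊆ Set.range (algebraMap (MvPolynomial σ A) C))
    (halg : ∀ x : ResidueField B,
      IsAlgebraic (Algebra.adjoin (ResidueField A) ((fun c => residue B (algebraMap C B c)) '' Z)) x) :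
    Algebra.WeaklyQuasiFiniteAt (MvPolynomial σ A) Q := by
  classical
  let R := MvPolynomial σ A
  letI : Algebra R B := ((algebraMap C B).comp (algebraMap R C)).toAlgebra
  have tRCB : IsScalarTower R C B := IsScalarTower.of_algebraMap_eq fun _ => rfl
  have tARB : IsScalarTower A R B := IsScalarTower.of_algebraMap_eq fun a => by
    rw [IsScalarTower.algebraMap_apply A C B, IsScalarTower.algebraMap_apply A R C]
    rfl
  let p : Ideal R := Q.under R
  rw [Algebra.weaklyQuasiFiniteAt_iff]
  let I : Ideal B := p.map (algebraMap R B)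
  let e : Localization.AtPrime Q ≃ₐ[R] B :=
    (IsLocalization.algEquiv Q.primeCompl (Localization.AtPrime Q) B).restrictScalars R
  let eq : (Localization.AtPrime Q ⧸ p.map (algebraMap R (Localization.AtPrime Q))) ≃ₐ[R] B ⧸ I :=
    Ideal.quotientEquivAlg _ _ e (by
      rw [Ideal.map_map]
      exact (congrArg (fun f => Ideal.map f p) (RingHom.ext fun r : R => (e.commutes r).symm)))
  rw [Algebra.QuasiFinite.iff_of_algEquiv eq]
  have hQm : ∀ c : C, c ∈ Q ↔ algebraMap C B c ∈ maximalIdeal B := fun c =>
    (IsLocalization.AtPrime.to_map_mem_maximal_iff B Q c).symm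
  have hIm : I ≤ maximalIdeal B := Ideal.map_le_iff_le_comap.2 fun r hr => (hQm _).1 hr
  let T := B ⧸ I
  have : Nontrivial T := Ideal.Quotient.nontrivial_iff.2 fun h => (maximalIdeal.isMaximal B).ne_top (top_le_iff.1 (h ▸ hIm))
  have : IsLocalRing T := IsLocalRing.of_surjective' _ Ideal.Quotient.mk_surjective
  let kp := p.ResidueField
  have hu : p.primeCompl ≤ (IsUnit.submonoid T).comap (algebraMap R T) := fun r hr => by
    have hr' : algebraMap R C r ∉ Q := hr
    exact (IsLocalization.map_units B (⟨_, hr'⟩ : Q.primeCompl)).map (Ideal.Quotient.mk I)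
  have hk : p ≤ RingHom.ker (algebraMap R T) := fun r hr =>
    Ideal.Quotient.eq_zero_iff_mem.2 (Ideal.mem_map_of_mem (algebraMap R B) hr)
  letI : Algebra kp T := (Ideal.ResidueField.lift p (algebraMap R T) hk hu).toAlgebra
  have tRkT : IsScalarTower R kp T :=
    IsScalarTower.of_algebraMap_eq fun r => (Ideal.ResidueField.lift_algebraMap _ _ _ _ r).symm
  have : Algebra.EssFiniteType R B := Algebra.EssFiniteType.of_comp A R B
  have : Algebra.EssFiniteType B T := inferInstance
  have : Algebra.EssFiniteType R T := Algebra.EssFiniteType.comp R B T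
  have : Algebra.EssFiniteType kp T := Algebra.EssFiniteType.of_comp R kp T
  have : IsNoetherianRing T := Algebra.EssFiniteType.isNoetherianRing kp T
  have hprime : ∀ P : Ideal T, P.IsPrime → P = maximalIdeal T := fun P hP => by
    have h1 : P.comap (Ideal.Quotient.mk I) = maximalIdeal B :=
      hmax _ inferInstance fun x hx => Ideal.mem_comap.2 (by
        have hx' : x ∈ I := hx
        rw [Ideal.Quotient.eq_zero_iff_mem.2 hx']; exact P.zero_mem)
    have h2 : maximalIdeal B ≤ (maximalIdeal T).comap (Ideal.Quotient.mk I) :=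
      (IsLocalRing.eq_maximalIdeal (Ideal.comap_isMaximal_of_surjective _ Ideal.Quotient.mk_surjective)).ge
    refine le_antisymm (IsLocalRing.le_maximalIdeal hP.ne_top) fun t ht => ?_
    obtain ⟨b, rfl⟩ := Ideal.Quotient.mk_surjective t
    have hb : b ∈ maximalIdeal B :=
      (IsLocalRing.eq_maximalIdeal (Ideal.comap_isMaximal_of_surjective _ Ideal.Quotient.mk_surjective)).le
        (Ideal.mem_comap.2 ht)
    rw [← h1] at hb
    exact hb
  -- the residue field over the residue field below
  let ρ : R →+* ResidueField B := (residue B).comp (algebraMap R B)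
  have hρk : p ≤ RingHom.ker ρ := fun r hr => residue_eq_zero_iff _ |>.2 ((hQm _).1 hr)
  have hρu : p.primeCompl ≤ (IsUnit.submonoid (ResidueField B)).comap ρ := fun r hr => by
    have hr' : algebraMap R C r ∉ Q := hr
    exact (IsLocalization.map_units B (⟨_, hr'⟩ : Q.primeCompl)).map (residue B)
  letI : Algebra kp (ResidueField B) := (Ideal.ResidueField.lift p ρ hρk hρu).toAlgebra
  have hρ : ∀ r : R, algebraMap kp (ResidueField B) (algebraMap R kp r) = ρ r :=
    fun r => Ideal.ResidueField.lift_algebraMap _ _ _ _ r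
  let rg : kp ≃+* (algebraMap kp (ResidueField B)).range :=
    RingEquiv.ofBijective (algebraMap kp (ResidueField B)).rangeRestrict
      ⟨fun x y h => (algebraMap kp (ResidueField B)).injective (congrArg Subtype.val h),
        RingHom.rangeRestrict_surjective _⟩
  let D := Algebra.adjoin (ResidueField A) ((fun c => residue B (algebraMap C B c)) '' Z)
  have hD : ∀ x ∈ D, x ∈ (algebraMap kp (ResidueField B)).range := by
    intro x hx
    induction hx using Algebra.adjoin_induction with
    | mem x hx =>
      obtain ⟨c, hc, rfl⟩ := hx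
      obtain ⟨r, rfl⟩ := hZ hc
      exact ⟨algebraMap R kp r, hρ r⟩
    | algebraMap a =>
      obtain ⟨a, rfl⟩ := residue_surjective a
      refine ⟨algebraMap R kp (algebraMap A R a), ?_⟩
      rw [hρ]
      show residue B (algebraMap R B (algebraMap A R a)) = _
      rw [← IsScalarTower.algebraMap_apply A R B]
      rfl
    | add _ _ _ _ hx hy => exact add_mem hx hy
    | mul _ _ _ _ hx hy => exact mul_mem hx hy
  let φ : D →+* kp := rg.symm.toRingHom.comp (D.val.toRingHom.codRestrict _ fun x => hD x.1 x.2)
  have hφ : ∀ x : D, algebraMap kp (ResidueField B) (φ x) = x := fun x =>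
    congrArg Subtype.val (rg.apply_symm_apply ⟨(x : ResidueField B), hD x.1 x.2⟩)
  have halgkp : Algebra.IsAlgebraic kp (ResidueField B) := ⟨fun x =>
    (halg x).ringHom_of_comp_eq φ (RingHom.id _)
      (fun a b h => Subtype.ext (by rw [← hφ a, ← hφ b, h])) (RingHom.ext fun a => hφ a)⟩
  let π : ResidueField B →+* ResidueField T :=
    Ideal.Quotient.lift (maximalIdeal B) ((residue T).comp (Ideal.Quotient.mk I)) fun b hb => by
      refine (residue_eq_zero_iff _).2 ?_
      have h1 := (IsLocalRing.eq_maximalIdeal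
        (Ideal.comap_isMaximal_of_surjective (Ideal.Quotient.mk I) (K := maximalIdeal T) Ideal.Quotient.mk_surjective)).ge
      exact h1 hb
  have hπ : (algebraMap kp (ResidueField T)) = π.comp (algebraMap kp (ResidueField B)) := by
    refine Ideal.ResidueField.ringHom_ext (RingHom.ext fun r => ?_)
    simp only [RingHom.comp_apply]
    rw [hρ, ← IsScalarTower.algebraMap_apply R kp (ResidueField T)]
    rfl
  have : Algebra.EssFiniteType R (ResidueField B) := Algebra.EssFiniteType.comp R B (ResidueField B)
  have tRkK : IsScalarTower R kp (ResidueField B) := IsScalarTower.of_algebraMap_eq fun r => (hρ r).symm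
  have : Algebra.EssFiniteType kp (ResidueField B) := Algebra.EssFiniteType.of_comp R kp _
  have : Module.Finite kp (ResidueField B) := Algebra.finite_of_essFiniteType_of_isAlgebraic
  let πl : ResidueField B →ₐ[kp] ResidueField T := { π with commutes' := fun z => (RingHom.congr_fun hπ z).symm }
  have : Module.Finite kp (ResidueField T) := Module.Finite.of_surjective πl.toLinearMap fun x => by
    obtain ⟨t, rfl⟩ := residue_surjective x
    obtain ⟨b, rfl⟩ := Ideal.Quotient.mk_surjective t
    exact ⟨residue B b, rfl⟩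
  have : Module.Finite kp T := finite_of_residue kp T hprime
  have : Algebra.QuasiFinite R kp := inferInstance
  exact Algebra.QuasiFinite.trans R kp T

end

end HorizElemLib
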