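import Groth.Agent.HorizElemLib.Local
import Groth.Agent.DimTrdegLib.Basic
import Groth.Agent.UOpenLib.Normal

/-!
# A horizontal element cuts a divisor dominating the base
-/

set_option autoImplicit false

universe u

open IsLocalRing

namespace HorizElemLib

theorem isIntegrallyClosed_integralClosure (A F : Type u) [CommRing A] [IsDomain A] [Field F] [Algebra A F] :
    IsIntegrallyClosed (integralClosure A F) := by
  have : IsIntegrallyClosedIn (integralClosure A F) F :=
    isIntegrallyClosedIn_iff.2 ⟨Subtype.val_injective, fun {x} hx =>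
      ⟨⟨x, (mem_integralClosure_iff _ _).2 (isIntegral_trans (A := integralClosure A F) x hx)⟩, rfl⟩⟩
  exact IsIntegrallyClosed.of_isIntegrallyClosed_of_isIntegrallyClosedIn _ F

theorem isIntegrallyClosed_mvPolynomial (A : Type u) [CommRing A] [IsDomain A] [IsIntegrallyClosed A]
    (σ : Type u) [Finite σ] : IsIntegrallyClosed (MvPolynomial σ A) := by
  obtain ⟨n, ⟨e⟩⟩ := Finite.exists_equiv_fin σ
  have := UOpenLib.isIntegrallyClosed_mvPolynomial_fin A n
  exact IsIntegrallyClosed.of_equiv (MvPolynomial.renameEquiv A e).toRingEquiv.symm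

theorem final {A A' C F σ : Type u} [CommRing A] [CommRing A'] [IsDomain A'] [IsIntegrallyClosed A'] [Algebra A A']
    [Algebra.IsIntegral A A'] [CommRing C] [Field F] [Algebra A F] [Algebra A' F] [IsScalarTower A A' F]
    [Algebra A C] [Algebra C F] [IsScalarTower A C F] [Finite σ] [Algebra (MvPolynomial σ A) C]
    [IsScalarTower A (MvPolynomial σ A) C] (y : σ → C) (i₀ : σ)
    (hy : ∀ i, algebraMap (MvPolynomial σ A) C (MvPolynomial.X i) = y i)
    (hind : AlgebraicIndependent A' fun i => algebraMap C F (y i))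
    (Q : Ideal C) [Q.IsPrime] (hc0 : y i₀ ∈ Q) (hCF : ∀ t ∈ Q.primeCompl, algebraMap C F t ≠ 0)
    (a : A) (u v : C) (hu : IsIntegral (MvPolynomial σ A) u) (hv : IsIntegral (MvPolynomial σ A) v) (huQ : u ∉ Q)
    (heq : algebraMap A F a * algebraMap C F u =
      algebraMap C F (algebraMap (MvPolynomial σ A) C (MvPolynomial.X i₀)) * algebraMap C F v) :
    algebraMap A A' a = 0 := by
  classical
  let R := MvPolynomial σ A
  let P := MvPolynomial σ A'
  let yF : σ → F := fun i => algebraMap C F (y i)
  have : IsIntegrallyClosed P := isIntegrallyClosed_mvPolynomial A' σ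
  letI : Algebra R F := ((algebraMap C F).comp (algebraMap R C)).toAlgebra
  have tRCF : IsScalarTower R C F := IsScalarTower.of_algebraMap_eq fun _ => rfl
  letI : Algebra R P := (MvPolynomial.map (algebraMap A A')).toAlgebra
  letI : Algebra P F := (MvPolynomial.aeval (R := A') yF).toRingHom.toAlgebra
  have hPF : ((algebraMap P F).comp (algebraMap R P)) = algebraMap R F := by
    refine MvPolynomial.ringHom_ext (fun r => ?_) (fun i => ?_)
    · change MvPolynomial.aeval yF (MvPolynomial.map (algebraMap A A') (MvPolynomial.C r)) =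
        algebraMap C F (algebraMap R C (algebraMap A R r))
      rw [MvPolynomial.map_C, MvPolynomial.aeval_C, ← IsScalarTower.algebraMap_apply A A' F,
        ← IsScalarTower.algebraMap_apply A R C, ← IsScalarTower.algebraMap_apply A C F]
    · change MvPolynomial.aeval yF (MvPolynomial.map (algebraMap A A') (MvPolynomial.X i)) =
        algebraMap C F (algebraMap R C (MvPolynomial.X i))
      rw [MvPolynomial.map_X, MvPolynomial.aeval_X, hy]
  have tRPF : IsScalarTower R P F := IsScalarTower.of_algebraMap_eq fun r => (RingHom.congr_fun hPF r).symm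
  have hRP : Algebra.IsIntegral R P := ⟨fun x =>
    MvPolynomial.isIntegral_iff_isIntegral_coeff.2 fun n => Algebra.IsIntegral.isIntegral _⟩
  let D' := integralClosure P F
  have hRD : Algebra.IsIntegral R D' := Algebra.IsIntegral.trans P
  have : FaithfulSMul P D' := (faithfulSMul_iff_algebraMap_injective P D').2 fun x x' h =>
    algebraicIndependent_iff_injective_aeval.1 hind (congrArg Subtype.val h)
  let C' := integralClosure R C
  have hC' : ∀ x : C, IsIntegral R x → algebraMap C F x ∈ D' := fun x hx =>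
    (mem_integralClosure_iff _ _).2 ((hx.map (IsScalarTower.toAlgHom R C F)).tower_top (A := P))
  letI : Algebra C' D' := (((algebraMap C F).comp C'.val.toRingHom).codRestrict D'.toSubring
    fun x => hC' x.1 x.2).toAlgebra
  have : IsScalarTower R C' D' := IsScalarTower.of_algebraMap_eq fun r => Subtype.ext (by
    rw [IsScalarTower.algebraMap_apply R P D']
    exact RingHom.congr_fun hPF r)
  have : Algebra.IsIntegral C' D' := Algebra.IsIntegral.tower_top R
  let q' : Ideal C' := Q.comap C'.val.toRingHom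
  have hker : ∀ x : C, algebraMap C F x = 0 → x ∈ Q := fun x hx => by
    by_contra h
    exact hCF x h hx
  obtain ⟨Qd, -, hQd, hQdq⟩ := Ideal.exists_ideal_over_prime_of_isIntegral q' (⊥ : Ideal D')
    fun x hx => hker _ (congrArg Subtype.val (Ideal.mem_bot.1 (Ideal.mem_comap.1 hx)))
  have hmemQd : ∀ x : C', algebraMap C' D' x ∈ Qd ↔ (x : C) ∈ Q := fun x => by
    rw [← Ideal.mem_comap, hQdq]
    rfl
  let X0 : P := MvPolynomial.X i₀
  have hX0 : (Ideal.span {X0}).IsPrime :=
    (Ideal.span_singleton_prime (MvPolynomial.X_ne_zero _)).2 MvPolynomial.X_prime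
  have hle : Ideal.span {X0} ≤ Qd.under P := by
    refine (Ideal.span_singleton_le_iff_mem _).2 (Ideal.mem_comap.2 ?_)
    let cc : C' := algebraMap R C' (MvPolynomial.X i₀)
    have h1 : algebraMap C' D' cc = algebraMap P D' X0 := Subtype.ext (by
      change algebraMap C F (algebraMap R C (MvPolynomial.X i₀)) = MvPolynomial.aeval yF (MvPolynomial.X i₀)
      rw [MvPolynomial.aeval_X, hy])
    rw [← h1, hmemQd]
    change algebraMap R C (MvPolynomial.X i₀) ∈ Q
    rw [hy]
    exact hc0
  obtain ⟨Pd, hPdle, hPd, hPdover⟩ := Ideal.exists_ideal_le_liesOver_of_le (R := P) Qd (p := Ideal.span {X0}) hle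
  let u' : C' := ⟨u, hu⟩
  let v' : C' := ⟨v, hv⟩
  have heqD : algebraMap P D' (MvPolynomial.C (algebraMap A A' a)) * algebraMap C' D' u' =
      algebraMap P D' X0 * algebraMap C' D' v' := Subtype.ext (by
    change MvPolynomial.aeval yF (MvPolynomial.C (algebraMap A A' a)) * algebraMap C F u =
      MvPolynomial.aeval yF (MvPolynomial.X i₀) * algebraMap C F v
    rw [MvPolynomial.aeval_X, MvPolynomial.aeval_C, ← IsScalarTower.algebraMap_apply A A' F, heq, hy])
  have hu' : algebraMap C' D' u' ∉ Pd := fun h => huQ ((hmemQd u').1 (hPdle h))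
  have hX : algebraMap P D' X0 ∈ Pd := Ideal.mem_comap.1 (hPdover.over.le (Ideal.mem_span_singleton_self X0))
  have hmem : algebraMap P D' (MvPolynomial.C (algebraMap A A' a)) ∈ Pd :=
    (hPd.mem_or_mem (by rw [heqD]; exact Ideal.mul_mem_right _ _ hX)).resolve_right hu'
  have hspan : MvPolynomial.C (algebraMap A A' a) ∈ Ideal.span {X0} := hPdover.over.ge hmem
  obtain ⟨r, hr⟩ := Ideal.mem_span_singleton'.1 hspan
  have := congrArg MvPolynomial.constantCoeff hr
  simp only [map_mul, X0, MvPolynomial.constantCoeff_X, mul_zero, MvPolynomial.constantCoeff_C] at this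
  exact this.symm

theorem core {A B C : Type u} [CommRing A] [CommRing B] [CommRing C] [IsDomain A] [IsDomain B]
    [IsLocalRing A] [IsLocalRing B] [Algebra A B] [IsLocalHom (algebraMap A B)] [FaithfulSMul A B]
    [Algebra.EssFiniteType A B] [Algebra A C] [Algebra.FiniteType A C] [Algebra C B] [IsScalarTower A C B]
    (Q : Ideal C) [Q.IsPrime] [IsLocalization.AtPrime B Q]
    (g : B) (hg : g ∈ maximalIdeal B)
    (hmin : ∀ q ∈ (Ideal.map (algebraMap A B) (maximalIdeal A)).minimalPrimes, g ∉ q)
    (d e : ℕ) (hd : ringKrullDim (B ⧸ Ideal.map (algebraMap A B) (maximalIdeal A)) = d)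
    (he : Algebra.trdeg (ResidueField A) (ResidueField B) = e) (hsum : Algebra.trdeg A B = (d + e : ℕ))
    (a : A) (ha : algebraMap A B a ∈ Ideal.span {g}) : a = 0 := by
  classical
  let m0 := Ideal.map (algebraMap A B) (maximalIdeal A)
  let J := m0 ⊔ Ideal.span {g}
  have hm0 : m0 ≤ maximalIdeal B := ((IsLocalRing.local_hom_TFAE (algebraMap A B)).out 0 2 rfl rfl).1 inferInstance
  have hJ : J ≠ ⊤ := fun h => (maximalIdeal.isMaximal B).ne_top (top_le_iff.1 (h ▸ sup_le hm0
    ((Ideal.span_singleton_le_iff_mem _).2 hg)))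
  -- the fibre is Noetherian
  have : IsNoetherianRing (B ⧸ J) := by
    letI : Algebra (ResidueField A) (B ⧸ J) := (Ideal.Quotient.lift (maximalIdeal A)
      ((Ideal.Quotient.mk J).comp (algebraMap A B)) fun x hx =>
        Ideal.Quotient.eq_zero_iff_mem.2 (Submodule.mem_sup_left (Ideal.mem_map_of_mem _ hx))).toAlgebra
    have : IsScalarTower A (ResidueField A) (B ⧸ J) := IsScalarTower.of_algebraMap_eq fun _ => rfl
    have : Algebra.EssFiniteType B (B ⧸ J) := inferInstance
    have : Algebra.EssFiniteType A (B ⧸ J) := Algebra.EssFiniteType.comp A B _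
    have : Algebra.EssFiniteType (ResidueField A) (B ⧸ J) := Algebra.EssFiniteType.of_comp A _ _
    exact Algebra.EssFiniteType.isNoetherianRing (ResidueField A) _
  have hdim := succ_le_dim m0 g hmin hJ
  rw [hd] at hdim
  have : Nontrivial (B ⧸ J) := Ideal.Quotient.nontrivial_iff.2 hJ
  have h0 : (0 : WithBot ℕ∞) ≤ ringKrullDim (B ⧸ J) := ringKrullDim_nonneg_of_nontrivial
  obtain ⟨d', rfl⟩ : ∃ d', d = d' + 1 := by
    refine ⟨d - 1, ?_⟩
    have h1 : ((1 : ℕ) : WithBot ℕ∞) ≤ (d : ℕ) := by
      refine le_trans ?_ hdim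
      exact le_add_of_nonneg_left h0
    have : 1 ≤ d := by exact_mod_cast h1
    omega
  have hdim' : ringKrullDim (B ⧸ J) ≤ (d' : ℕ) := by
    generalize ringKrullDim (B ⧸ J) = v at hdim
    induction v with
    | bot => exact bot_le
    | coe v =>
      induction v with
      | top =>
        exact absurd (WithBot.coe_le_coe.1 (show (((⊤ : ℕ∞) + 1 : ℕ∞) : WithBot ℕ∞) ≤ (((d' + 1 : ℕ) : ℕ∞) : WithBot ℕ∞)
          from hdim)) (by rw [top_add, top_le_iff]; exact ENat.natCast_ne_top _)
      | coe v => norm_cast at hdim ⊢; omega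
  obtain ⟨s, hscard, hsm, hs⟩ := exists_params J hJ d' hdim'
  obtain ⟨Z, hZcard, hZalg⟩ := exists_residue_basis (A := A) (B := B) Q e he
  -- numerators
  obtain ⟨c0, ⟨s0, hs0⟩, rfl⟩ := IsLocalization.exists_mk'_eq Q.primeCompl g
  have hQm : ∀ c : C, c ∈ Q ↔ algebraMap C B c ∈ maximalIdeal B := fun c =>
    (IsLocalization.AtPrime.to_map_mem_maximal_iff B Q c).symm
  have hnum : ∀ b : B, ∃ c : C, ∃ w : B, IsUnit w ∧ b = algebraMap C B c * w := fun b => by
    obtain ⟨c, t, rfl⟩ := IsLocalization.exists_mk'_eq Q.primeCompl b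
    exact ⟨c, _, (IsLocalization.map_units B t).unit⁻¹.isUnit,
      (Units.eq_mul_inv_iff_mul_eq _).2 (IsLocalization.mk'_spec B c t)⟩
  choose num w hw hnumw using hnum
  have hnumQ : ∀ b ∈ s, num b ∈ Q := fun b hb => by
    rw [hQm]
    have := hsm b hb
    rw [hnumw b] at this
    exact ((maximalIdeal.isMaximal B).isPrime.mem_or_mem this).resolve_right fun h => h (hw b)
  have hc0 : c0 ∈ Q := by
    rw [hQm, ← IsLocalization.mk'_spec B c0 (⟨s0, hs0⟩ : Q.primeCompl)]
    exact Ideal.mul_mem_right _ _ hg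
  let σ := Option ({x // x ∈ s} ⊕ {x // x ∈ Z})
  let y : σ → C := fun o => o.elim c0 (Sum.elim (fun b => num b.1) fun z => z.1)
  let R := MvPolynomial σ A
  letI : Algebra R C := (MvPolynomial.aeval (R := A) y).toRingHom.toAlgebra
  have tARC : IsScalarTower A R C :=
    IsScalarTower.of_algebraMap_eq fun x => ((MvPolynomial.aeval (R := A) y).commutes x).symm
  have hy : ∀ i, algebraMap R C (MvPolynomial.X i) = y i := fun i => MvPolynomial.aeval_X y i
  have : Algebra.FiniteType R C := Algebra.FiniteType.of_restrictScalars_finiteType A R C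
  have hmax : ∀ P : Ideal B, P.IsPrime →
      ((Q.under R).map ((algebraMap C B).comp (algebraMap R C))) ≤ P → P = maximalIdeal B := by
    intro P hP hle
    rw [Ideal.map_le_iff_le_comap] at hle
    have hmem : ∀ r : R, algebraMap R C r ∈ Q → algebraMap C B (algebraMap R C r) ∈ P := fun r hr => hle hr
    refine hs P hP (sup_le (Ideal.map_le_iff_le_comap.2 fun x hx => ?_)
      ((Ideal.span_singleton_le_iff_mem _).2 ?_)) fun b hb => ?_
    · have := hmem (algebraMap A R x)
      rw [← IsScalarTower.algebraMap_apply A R C, ← IsScalarTower.algebraMap_apply A C B] at this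
      refine this ?_
      rw [hQm, ← IsScalarTower.algebraMap_apply A C B]
      exact hm0 (Ideal.mem_map_of_mem _ hx)
    · have h1 := hmem (MvPolynomial.X none) (by rw [hy]; exact hc0)
      rw [hy] at h1
      rw [show (IsLocalization.mk' B c0 (⟨s0, hs0⟩ : Q.primeCompl)) = algebraMap C B c0 *
        ((IsLocalization.map_units B (⟨s0, hs0⟩ : Q.primeCompl)).unit⁻¹ : Bˣ) from
          (Units.eq_mul_inv_iff_mul_eq _).2 (IsLocalization.mk'_spec B c0 (⟨s0, hs0⟩ : Q.primeCompl))]
      exact Ideal.mul_mem_right _ _ h1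
    · have h1 := hmem (MvPolynomial.X (some (Sum.inl ⟨b, hb⟩))) (by rw [hy]; exact hnumQ b hb)
      rw [hy] at h1
      rw [hnumw b]
      exact Ideal.mul_mem_right _ _ h1
  have : Algebra.WeaklyQuasiFiniteAt R Q := weaklyQuasiFiniteAt (A := A) (B := B) Q hmax (Z : Set C)
    (fun z hz => ⟨MvPolynomial.X (some (Sum.inr ⟨z, hz⟩)), hy _⟩) hZalg
  obtain ⟨f, hfQ, hfint, hf⟩ := Algebra.zariskisMainProperty_iff.1
    (Algebra.ZariskisMainProperty.of_finiteType_of_weaklyQuasiFiniteAt (R := R) Q)
  -- everything inside the fraction field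
  let F := FractionRing B
  have tCBF : IsScalarTower C B F := inferInstance
  have tACF : IsScalarTower A C F := IsScalarTower.to₁₂₄ A C B F
  have hCF : ∀ t ∈ Q.primeCompl, algebraMap C F t ≠ 0 := fun t ht h =>
    (IsLocalization.map_units B (⟨t, ht⟩ : Q.primeCompl)).ne_zero
      (IsFractionRing.injective B F ((IsScalarTower.algebraMap_apply C B F t).symm.trans (h.trans (map_zero _).symm)))
  let yF : σ → F := fun i => algebraMap C F (y i)
  letI : Algebra R F := ((algebraMap C F).comp (algebraMap R C)).toAlgebra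
  have tRCF : IsScalarTower R C F := IsScalarTower.of_algebraMap_eq fun _ => rfl
  have haev : ∀ r : R, MvPolynomial.aeval yF r = algebraMap R F r := fun r => by
    change MvPolynomial.aeval yF r = algebraMap C F (MvPolynomial.aeval y r)
    rw [← IsScalarTower.coe_toAlgHom' A C F, ← AlgHom.comp_apply, MvPolynomial.comp_aeval]
    rfl
  let D := Algebra.adjoin A (Set.range yF)
  have hrange : ∀ r : R, algebraMap R F r ∈ D := fun r => by
    rw [← haev, show D = (MvPolynomial.aeval yF).range from Algebra.adjoin_range_eq_range_aeval A yF]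
    exact ⟨r, rfl⟩
  letI : Algebra R D := ((algebraMap R F).codRestrict D.toSubring hrange).toAlgebra
  have tRDF : IsScalarTower R D F := IsScalarTower.of_algebraMap_eq fun _ => rfl
  have hintalg : ∀ x : C, IsIntegral R x → IsAlgebraic D (algebraMap C F x) := fun x hx =>
    ((hx.map (IsScalarTower.toAlgHom R C F)).tower_top (A := D)).isAlgebraic
  have hCalg : ∀ x : C, IsAlgebraic D (algebraMap C F x) := fun x => by
    obtain ⟨k, hk⟩ := hf x
    have hne : algebraMap C F (f ^ k) ≠ 0 := hCF _ (Q.primeCompl.pow_mem hfQ k)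
    have h1 := hintalg _ hk
    rw [map_mul] at h1
    have h2 := h1.mul (hintalg _ (hfint.pow k)).inv
    rwa [mul_comm (algebraMap C F (f ^ k)), mul_assoc, mul_inv_cancel₀ hne, mul_one] at h2
  have hBalg : ∀ b : B, IsAlgebraic D (algebraMap B F b) := fun b => by
    obtain ⟨c, t, rfl⟩ := IsLocalization.exists_mk'_eq Q.primeCompl b
    have h1 : algebraMap B F (IsLocalization.mk' B c t) = algebraMap C F c * (algebraMap C F t)⁻¹ := by
      rw [eq_mul_inv_iff_mul_eq₀ (hCF _ t.2)]
      rw [IsScalarTower.algebraMap_apply C B F, IsScalarTower.algebraMap_apply C B F]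
      rw [← map_mul, IsLocalization.mk'_spec]
    rw [h1]
    exact (hCalg c).mul (hCalg t).inv
  have : Algebra.IsAlgebraic D F := ⟨fun x => by
    obtain ⟨p, q, -, rfl⟩ := IsFractionRing.div_surjective B x
    rw [div_eq_mul_inv]
    exact (hBalg p).mul (hBalg q).inv⟩
  have hcard : Cardinal.mk σ ≤ Algebra.trdeg A F := by
    rw [DimTrdegLib.trdeg_fractionRing_eq A B F, hsum, Cardinal.mk_fintype]
    refine Nat.cast_le.2 ?_
    simp only [σ, Fintype.card_option, Fintype.card_sum, Fintype.card_coe]
    omega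
  have : FaithfulSMul A F := (faithfulSMul_iff_algebraMap_injective A F).2 (by
    rw [IsScalarTower.algebraMap_eq A B F]
    exact (IsFractionRing.injective B F).comp (FaithfulSMul.algebraMap_injective A B))
  have hind : AlgebraicIndependent A yF :=
    (Algebra.IsAlgebraic.isTranscendenceBasis_of_le_trdeg_of_finite A yF hcard).1
  let A' := integralClosure A F
  have : IsIntegrallyClosed A' := isIntegrallyClosed_integralClosure A F
  have : Algebra.IsAlgebraic A A' := ⟨fun x => (Algebra.IsIntegral.isIntegral x).isAlgebraic⟩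
  have hind' : AlgebraicIndependent A' yF := hind.extendScalars A'
  obtain ⟨b, hb⟩ := Ideal.mem_span_singleton'.1 ha
  obtain ⟨cb, tb, rfl⟩ := IsLocalization.exists_mk'_eq Q.primeCompl b
  obtain ⟨k1, hk1⟩ := hf ((tb : C) * s0)
  obtain ⟨k2, hk2⟩ := hf cb
  let u : C := f ^ (k1 + k2) * ((tb : C) * s0)
  let v : C := f ^ (k1 + k2) * cb
  have hu : IsIntegral R u := by
    simp only [u, pow_add]
    rw [mul_comm (f ^ k1), mul_assoc]
    exact (hfint.pow k2).mul hk1
  have hv : IsIntegral R v := by
    simp only [v, pow_add]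
    rw [mul_assoc]
    exact (hfint.pow k1).mul hk2
  have huQ : u ∉ Q := fun h => by
    rcases ‹Q.IsPrime›.mem_or_mem h with h | h
    · exact hfQ (‹Q.IsPrime›.mem_of_pow_mem _ h)
    · exact (Q.primeCompl.mul_mem tb.2 hs0) h
  have heq : algebraMap A B a * algebraMap C B u = algebraMap C B c0 * algebraMap C B v := by
    simp only [u, v, map_mul]
    rw [← hb, ← IsLocalization.mk'_spec B c0 (⟨s0, hs0⟩ : Q.primeCompl), ← IsLocalization.mk'_spec B cb tb]
    ring
  have h0 := final (A' := A') y none hy hind' Q hc0 hCF a u v hu hv huQ (by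
    rw [hy, IsScalarTower.algebraMap_apply A B F, IsScalarTower.algebraMap_apply C B F,
      IsScalarTower.algebraMap_apply C B F, IsScalarTower.algebraMap_apply C B F, ← map_mul, ← map_mul, heq]
    rfl)
  refine FaithfulSMul.algebraMap_injective A F ?_
  rw [map_zero, IsScalarTower.algebraMap_apply A A' F, h0, map_zero]

end HorizElemLib
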